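import Groth.Agent.SerreReg.CM
import Groth.Agent.CMChart.Ring
import Groth.Agent.ExtShX.CodimField
import Groth.Agent.CMFlat.Scheme
import Groth.Agent.FibreFlat.Stalk

/-!
Flatness from the equality of dimensions: a Cohen–Macaulay source over a regular target with fibres of the
expected dimension.
-/

universe u

open CategoryTheory AlgebraicGeometry TopologicalSpace IsLocalRing RingTheory.Sequence

set_option autoImplicit false
set_option backward.isDefEq.respectTransparency false
set_option backward.isDefEq.respectTransparency.types false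
set_option linter.style.haveILetI false
set_option linter.overlappingInstances false

noncomputable section

namespace Groth.Agent.MiracleFlat

theorem flat_of_dim_eq {R S : Type u} [CommRing R] [CommRing S] [Algebra R S] [IsRegularLocalRing R]
    [IsLocalRing S] [IsNoetherianRing S] [IsLocalHom (algebraMap R S)]
    [LocCoh.IsCohenMacaulayLocalRing S]
    [IsLocalRing (S ⧸ (maximalIdeal R).map (algebraMap R S))] (d m : ℕ)
    (hR : ringKrullDim R = d) (hm : ringKrullDim (S ⧸ (maximalIdeal R).map (algebraMap R S)) = m)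
    (hS : ringKrullDim S = ((d + m : ℕ) : WithBot ℕ∞)) : Module.Flat R S := by
  obtain ⟨rs, hlen, hreg, hspan⟩ := SerreReg.exists_regular_rsop d R hR
  let I := (maximalIdeal R).map (algebraMap R S)
  obtain ⟨b', hb'⟩ := SerreReg.exists_sop (S ⧸ I) m hm
  choose b hb using fun i => Ideal.Quotient.mk_surjective (b' i)
  let a : Fin d → S := fun i => algebraMap R S (rs[(i : ℕ)]'(hlen ▸ i.2))
  have hlist : List.ofFn a = rs.map (algebraMap R S) :=
    List.ext_getElem (by simp [hlen]) fun i h1 h2 => by simp [a]
  have hrange : Ideal.span (Set.range a) = I := by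
    show _ = Ideal.map _ _
    rw [← hspan, Ideal.map_ofList, ← hlist, Ideal.ofList]
    congr 1
    ext v
    simp [eq_comm]
  have hsop : CMSop.IsSop (Fin.append a b) := by
    have hsp : Ideal.span (Set.range (Fin.append a b)) = Ideal.span (Set.range b) ⊔ I := by
      have hu : Set.range (Fin.append a b) = Set.range b ∪ Set.range a := by
        ext v
        constructor
        · rintro ⟨i, rfl⟩
          induction i using Fin.addCases with
          | left i => exact Or.inr ⟨i, (Fin.append_left a b i).symm⟩
          | right i => exact Or.inl ⟨i, (Fin.append_right a b i).symm⟩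
        · rintro (⟨i, rfl⟩ | ⟨i, rfl⟩)
          · exact ⟨Fin.natAdd d i, Fin.append_right a b i⟩
          · exact ⟨Fin.castAdd m i, Fin.append_left a b i⟩
      rw [hu, Ideal.span_union, hrange]
    have hmap : (Ideal.span (Set.range b)).map (Ideal.Quotient.mk I) = Ideal.span (Set.range b') := by
      rw [Ideal.map_span, ← Set.range_comp]
      exact congrArg (fun w => Ideal.span (Set.range w)) (funext hb)
    have hcomap : ((Ideal.span (Set.range b)).map (Ideal.Quotient.mk I)).comap (Ideal.Quotient.mk I) =
        Ideal.span (Set.range b) ⊔ I := by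
      rw [Ideal.comap_map_of_surjective _ Ideal.Quotient.mk_surjective, ← RingHom.ker_eq_comap_bot, Ideal.mk_ker]
    rw [CMSop.IsSop, hsp, ← hcomap, ← Ideal.comap_radical, hmap, hb']
    exact (IsLocalRing.eq_maximalIdeal (Ideal.comap_isMaximal_of_surjective _ Ideal.Quotient.mk_surjective))
  have hdepth : ((d + m : ℕ) : ℕ∞) ≤ LocCoh.depth S S := by
    have h := LocCoh.IsCohenMacaulayLocalRing.supportDim_eq_depth (R := S)
    rw [Module.supportDim_self_eq_ringKrullDim, hS, ← WithBot.coe_natCast, WithBot.coe_inj] at h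
    exact h.le
  have h := SerreReg.isWeaklyRegular_take_of_isSop hsop (CMSop.hasRegSeq_of_depth hdepth) d
  rw [List.ofFn_fin_append, List.take_left' (by simp), hlist, isWeaklyRegular_map_algebraMap_iff] at h
  exact SerreReg.flat_of_regular_rsop d R hR rs hlen hreg hspan S h

/-- Irreducible components of a fibre and of the corresponding subspace. -/
theorem image_mem_irreducibleComponents {α β : Type*} [TopologicalSpace α] [TopologicalSpace β] (e : α ≃ₜ β)
    {Z : Set α} (hZ : Z ∈ irreducibleComponents α) : e '' Z ∈ irreducibleComponents β := by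
  refine ⟨hZ.1.image e e.continuous.continuousOn, fun T hT hle => ?_⟩
  have h1 : IsIrreducible (e.symm '' T) := hT.image e.symm e.symm.continuous.continuousOn
  have h2 : Z ≤ e.symm '' T := fun z hz => ⟨e z, hle ⟨z, hz, rfl⟩, e.symm_apply_apply z⟩
  intro t ht
  exact ⟨e.symm t, hZ.2 h1 h2 ⟨t, ht, rfl⟩, e.apply_symm_apply t⟩

theorem dim_stalk_of_isClosed {k : Type u} [Field k] {P : Scheme.{u}} (f : P ⟶ Spec (CommRingCat.of k))
    [LocallyOfFiniteType f] (n : ℕ)
    (hP : ∀ Z : Set ↥P, Z ∈ irreducibleComponents ↥P → topologicalKrullDim ↥Z = (n : WithBot ℕ∞)) (x : P)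
    (hx : IsClosed ({x} : Set P)) : ringKrullDim (P.presheaf.stalk x) = (n : WithBot ℕ∞) := by
  obtain ⟨a, d, ha, hd, rfl⟩ := ExtShX.exists_dims_field f n hP x
  have ha0 : a = 0 := by
    rw [hx.closure_eq] at ha
    have h0 : topologicalKrullDim ({x} : Set P) ≤ ((0 : ℕ) : WithBot ℕ∞) := by
      rw [Nat.cast_zero]
      haveI : Subsingleton (IrreducibleCloseds ({x} : Set P)) := ⟨fun s t => by
        ext z
        have hs : ∀ w : IrreducibleCloseds ({x} : Set P), z ∈ w := fun w => by
          obtain ⟨v, hv⟩ := w.isIrreducible'.nonempty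
          rwa [Subsingleton.elim z v]
        exact ⟨fun _ => hs t, fun _ => hs s⟩⟩
      exact Order.krullDim_nonpos_of_subsingleton
    rw [ha] at h0
    exact Nat.le_zero.1 (by exact_mod_cast h0)
  rw [hd, ha0, Nat.zero_add]

/-- Miracle flatness over a field. -/
theorem flat_of_dims (k : Type u) [Field k] {X Y : Scheme.{u}} (q : Y ⟶ Spec (CommRingCat.of k))
    [LocallyOfFiniteType q] (f : X ⟶ Y) [LocallyOfFiniteType (f ≫ q)]
    (hY : ∀ y : Y, IsRegularLocalRing (Y.presheaf.stalk y))
    (hX : ∀ x : X, LocCoh.IsCohenMacaulayLocalRing (X.presheaf.stalk x))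
    (e d : ℕ) (hde : d ≤ e)
    (hXe : ∀ Z ∈ irreducibleComponents (X : Type u), topologicalKrullDim Z = e)
    (hYd : ∀ Z ∈ irreducibleComponents (Y : Type u), topologicalKrullDim Z = d)
    (hfib : ∀ y : Y, ∀ Z ∈ irreducibleComponents (f.base ⁻¹' {y}), topologicalKrullDim Z = (e - d : ℕ)) :
    Flat f := by
  haveI : LocallyOfFiniteType f := locallyOfFiniteType_of_comp f q
  haveI : IsLocallyNoetherian X := LocallyOfFiniteType.isLocallyNoetherian (f ≫ q)
  haveI : IsLocallyNoetherian Y := LocallyOfFiniteType.isLocallyNoetherian q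
  haveI : JacobsonSpace X := LocallyOfFiniteType.jacobsonSpace (f ≫ q)
  haveI : JacobsonSpace Y := LocallyOfFiniteType.jacobsonSpace q
  have key : ∀ x : X, IsClosed ({x} : Set X) → (f.stalkMap x).hom.Flat := by
    intro x hx
    have hy : IsClosed ({f x} : Set Y) := f.closePoints_subset_preimage_closedPoints hx
    haveI := hY (f x)
    haveI := hX x
    letI := (f.stalkMap x).hom.toAlgebra
    haveI : IsLocalHom (algebraMap (Y.presheaf.stalk (f x)) (X.presheaf.stalk x)) :=
      inferInstanceAs (IsLocalHom (f.stalkMap x).hom)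
    obtain ⟨ε⟩ := CMFlat.nonempty_fiberStalk_equiv f x
    haveI : IsLocalRing (X.presheaf.stalk x ⧸ (maximalIdeal (Y.presheaf.stalk (f x))).map
        (algebraMap (Y.presheaf.stalk (f x)) (X.presheaf.stalk x))) := ε.symm.isLocalRing
    haveI : LocallyOfFiniteType (f.fiberToSpecResidueField (f x)) :=
      MorphismProperty.pullback_snd _ _ inferInstance
    refine flat_of_dim_eq d (e - d) (dim_stalk_of_isClosed q d hYd (f x) hy) ?_ ?_
    · refine (ringKrullDim_eq_of_ringEquiv ε).trans (dim_stalk_of_isClosed (k := Y.residueField (f x))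
        (f.fiberToSpecResidueField (f x)) (e - d) (fun Z hZ => ?_) (f.asFiber x) ?_)
      · rw [← hfib (f x) _ (image_mem_irreducibleComponents (f.fiberHomeo (f x)) hZ)]
        exact ((f.fiberHomeo (f x)).image Z).isHomeomorph.topologicalKrullDim_eq
      · have h1 : IsClosed (f.fiberι (f x) ⁻¹' {x}) := hx.preimage (f.fiberι (f x)).continuous
        convert h1 using 1
        ext z
        simp only [Set.mem_singleton_iff, Set.mem_preimage]
        constructor
        · rintro rfl; exact Scheme.Hom.fiberι_asFiber f x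
        · intro hz; exact (f.fiberι (f x)).isEmbedding.injective (hz.trans (Scheme.Hom.fiberι_asFiber f x).symm)
    · rw [Nat.add_sub_cancel' hde]
      exact dim_stalk_of_isClosed (f ≫ q) e hXe x hx
  refine Flat.of_stalkMap _ fun x => ?_
  by_contra hx
  obtain ⟨z, hz, hzc⟩ := nonempty_inter_closedPoints (Z := ((FibreFlat.flatOpen f : Set X))ᶜ)
    ⟨x, hx⟩ (FibreFlat.flatOpen f).isOpen.isClosed_compl.isLocallyClosed
  exact hz (key z hzc)

end Groth.Agent.MiracleFlat
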